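import Groth.Agent.S1690
import Groth.Agent.S16080
import Groth.Agent.S2821
import Groth.Agent.S6872
import Groth.Agent.S0234
import Groth.Agent.SDiv.K476.Ref1
import Groth.Agent.CycB.StalkExact
import Groth.Agent.SDiv.K475.Rank1
import Groth.Agent.CohqB.LocalQC
import Groth.Agent.PerfA.CohSerre

/-!
# Reflexive modules on regular schemes: Hartogs for arbitrary pairs of opens
-/

set_option autoImplicit false
universe u
open CategoryTheory CategoryTheory.Limits AlgebraicGeometry TopologicalSpace Opposite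

namespace K852.Reflex

open Groth.Agent.CohqB.QC2 Groth.Agent.Divis.DepthTwo Groth.Agent.Divis.ExtendTwo
  Groth.Agent.Divis.ExtendStalk Groth.Agent.Divis.StalkMod Groth.Agent.Divis.ReflexAlg

variable {X : Scheme.{u}}

/-- local version of `bijective_of_affine` -/
theorem bijective_of_affine_le (M : X.Modules) (U O : X.Opens)
    (h : ∀ W : X.Opens, IsAffineOpen W → W ≤ O → Function.Bijective (res M (inf_le_left : W ⊓ U ≤ W)))
    (V : X.Opens) (hVO : V ≤ O) : Function.Bijective (res M (inf_le_left : V ⊓ U ≤ V)) := by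
  have hcov : ∀ V : X.Opens, V ≤ ⨆ W : {W : X.Opens // IsAffineOpen W ∧ W ≤ V}, W.1 := by
    intro V x hx
    obtain ⟨W, hW, hxW, hWV⟩ := exists_isAffineOpen_mem_and_subset (x := x) (U := V) hx
    exact Opens.mem_iSup.mpr ⟨⟨W, hW, hWV⟩, hxW⟩
  have hinj : ∀ V : X.Opens, V ≤ O → Function.Injective (res M (inf_le_left : V ⊓ U ≤ V)) := by
    intro V hV
    rw [injective_iff_map_eq_zero]
    intro t ht
    apply section_ext M _ (fun W : {W : X.Opens // IsAffineOpen W ∧ W ≤ V} => W.2.2) (hcov V)
    rintro ⟨W, hW, hWV⟩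
    simp only
    rw [map_zero]
    apply (injective_iff_map_eq_zero _).mp (h W hW (hWV.trans hV)).1
    rw [res_res, ← res_res M (inf_le_left : V ⊓ U ≤ V) (inf_le_inf_right U hWV), ht, map_zero]
  refine ⟨hinj V hVO, fun s => ?_⟩
  choose m hm using fun W : {W : X.Opens // IsAffineOpen W ∧ W ≤ V} =>
    (h W.1 W.2.1 (W.2.2.trans hVO)).2 (res M (inf_le_inf_right U W.2.2) s)
  obtain ⟨t, ht⟩ := exists_glue M _ (fun W : {W : X.Opens // IsAffineOpen W ∧ W ≤ V} => W.2.2)
    (hcov V) m (by
      intro W W'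
      apply hinj _ (inf_le_left.trans (W.2.2.trans hVO))
      rw [res_res, res_res,
        ← res_res M (inf_le_left : W.1 ⊓ U ≤ W.1) (inf_le_inf_right U inf_le_left), hm,
        ← res_res M (inf_le_left : W'.1 ⊓ U ≤ W'.1) (inf_le_inf_right U inf_le_right), hm,
        res_res, res_res])
  refine ⟨t, ?_⟩
  apply section_ext M (fun W : {W : X.Opens // IsAffineOpen W ∧ W ≤ V} => W.1 ⊓ U)
    (fun W => inf_le_inf_right U W.2.2) (by
      rw [← iSup_inf_eq]
      exact inf_le_inf_right U (hcov V))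
  intro W
  rw [res_res, ← hm, ← ht, res_res]

/-- Hartogs for a pair of opens, in terms of regular pairs. -/
theorem bijective_of_regPair [IsLocallyNoetherian X] {M : X.Modules} (hM : Coh.IsCoh M)
    (U V : X.Opens) (hVU : V ≤ U)
    (h : ∀ x : X, x ∈ U → x ∉ V → ∃ a ∈ IsLocalRing.maximalIdeal (X.presheaf.stalk x),
      ∃ b ∈ IsLocalRing.maximalIdeal (X.presheaf.stalk x), RegPair a b (M.presheaf.stalk x)) :
    Function.Bijective (M.presheaf.map (homOfLE hVU).op) := by
  have hq : SheafOfModules.IsQuasicoherent (R := X.ringCatSheaf) M := hM.1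
  have h1 : Function.Bijective (res M (inf_le_left : U ⊓ V ≤ U)) := by
    apply bijective_of_affine_le M V U _ U le_rfl
    intro W hW hWU
    exact (good_of_stalk hM V hW (fun x hx hxV => h x (hWU hx) hxV)).bijective M
      (loc_of_isQuasicoherent M hW) hW
  have h2 : U ⊓ V = V := inf_eq_right.mpr hVU
  have h3 : ∀ (W : X.Opens) (hW : W = V) (hWU : W ≤ U), Function.Bijective (res M hWU) →
      Function.Bijective (M.presheaf.map (homOfLE hVU).op) := by
    rintro W rfl hWU h
    exact h
  exact h3 _ h2 _ h1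

theorem isNormal (hreg : ∀ x : X, IsRegularLocalRing (X.presheaf.stalk x)) : Pi1.IsNormalScheme X := by
  intro x
  have := hreg x
  have h1 := Groth.Agent.CalgA.RegBasic.isDomain (X.presheaf.stalk x)
  have h2 := (Groth.Agent.S2821.result (X.presheaf.stalk x)).2
  exact ⟨h1, inferInstance⟩

/-- Reflexive coherent modules on a regular scheme have regular pairs at points of dimension at least two. -/
theorem exists_regPair [IsLocallyNoetherian X]
    (hreg : ∀ x : X, IsRegularLocalRing (X.presheaf.stalk x)) {F : X.Modules} (x : X)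
    (hr : Module.IsReflexive (X.presheaf.stalk x) (F.presheaf.stalk x))
    (hx : (2 : WithBot ℕ∞) ≤ ringKrullDim (X.presheaf.stalk x)) :
    ∃ a ∈ IsLocalRing.maximalIdeal (X.presheaf.stalk x),
      ∃ b ∈ IsLocalRing.maximalIdeal (X.presheaf.stalk x), RegPair a b (F.presheaf.stalk x) := by
  have h0 := (isNormal hreg x).1
  have h1 := (isNormal hreg x).2
  obtain ⟨a, ha, b, hb, hab⟩ := exists_regPair_of_isIntegrallyClosed hx
  exact ⟨a, ha, b, hb, regPair_of_isReflexive hab⟩

/-- Reflexive modules are normal. -/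
theorem bijective_of_isReflexive [IsLocallyNoetherian X]
    (hreg : ∀ x : X, IsRegularLocalRing (X.presheaf.stalk x)) {F : X.Modules} (hF : Coh.IsCoh F)
    (hr : ∀ x, Module.IsReflexive (X.presheaf.stalk x) (F.presheaf.stalk x))
    (U V : X.Opens) (hVU : V ≤ U)
    (h : ∀ x : X, x ∈ U → x ∉ V → (2 : WithBot ℕ∞) ≤ ringKrullDim (X.presheaf.stalk x)) :
    Function.Bijective (F.presheaf.map (homOfLE hVU).op) :=
  bijective_of_regPair hF U V hVU fun x hxU hxV => exists_regPair hreg x (hr x) (h x hxU hxV)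

/-- Outside the free locus of a torsion free coherent module on a normal scheme the local rings have
dimension at least two. -/
theorem two_le_of_notMem [IsLocallyNoetherian X] (hX : Pi1.IsNormalScheme X)
    (F : X.Modules) (hF : Coh.IsCoh F)
    (h : ∀ x : ↥X, Module.IsTorsionFree (X.presheaf.stalk x) (F.presheaf.stalk x))
    (x : X) (hx : x ∉ Groth.Agent.S1690.freeOpen F) :
    (2 : WithBot ℕ∞) ≤ ringKrullDim (X.presheaf.stalk x) := by
  by_contra hlt
  have hle : ringKrullDim (X.presheaf.stalk x) ≤ 1 := Groth.Agent.S1690.le_one_of_not _ hlt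
  have h0 := (hX x).1
  have h1 := (hX x).2
  have := isPrincipalIdealRing_of_isIntegrallyClosed hle
  have h2 := h x
  have h3 := finite_stalk hF x
  have h4 : Module.Free (X.presheaf.stalk x) (F.presheaf.stalk x) :=
    Module.free_of_finite_type_torsion_free'
  obtain ⟨V, n, hxV, e⟩ := exists_free_nhd hF x h4
  exact hx (Opens.mem_sSup.mpr ⟨V, ⟨n, e⟩, hxV⟩)

/-- Torsion free normal modules are reflexive. -/
theorem isReflexive_of_normal [IsIntegral X] [IsLocallyNoetherian X]
    (hreg : ∀ x : X, IsRegularLocalRing (X.presheaf.stalk x)) {F : X.Modules} (hF : Coh.IsCoh F)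
    (htf : ∀ x : ↥X, Module.IsTorsionFree (X.presheaf.stalk x) (F.presheaf.stalk x))
    (hn : ∀ (U V : X.Opens) (hVU : V ≤ U), (∀ x : X, x ∈ U → x ∉ V →
        (2 : WithBot ℕ∞) ≤ ringKrullDim (X.presheaf.stalk x)) →
        Function.Bijective (F.presheaf.map (homOfLE hVU).op)) (x : X) :
    Module.IsReflexive (X.presheaf.stalk x) (F.presheaf.stalk x) := by
  have hX := isNormal hreg
  refine (Groth.Agent.S1690.result X hX F hF).mpr ⟨Groth.Agent.S1690.freeOpen F,
    two_le_of_notMem hX F hF htf, Groth.Agent.S1690.isFinLocFree_restrict_freeOpen F, ?_⟩ x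
  rw [Groth.Agent.Divis.ReflexSheaf.isIso_unit_iff]
  intro V
  exact hn V (V ⊓ Groth.Agent.S1690.freeOpen F) inf_le_left fun x hxV hx =>
    two_le_of_notMem hX F hF htf x fun h => hx ⟨hxV, h⟩

/-- the open locus where a module is invertible -/
def invOpen (F : X.Modules) : X.Opens :=
  sSup {V : X.Opens | Nonempty (F.restrict V.ι ≅ Coh.structureModule (V : Scheme.{u}))}

open Groth.Agent.CycB Groth.Agent.CycB.ModStalk K475.GenStalk K475.Rank1 in
theorem isInvertible_invOpen [IsLocallyNoetherian X] (F : X.Modules) (hF : Coh.IsCoh F) :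
    PicF.IsInvertible (F.restrict (invOpen F).ι) := by
  rintro ⟨x, hx⟩
  obtain ⟨V, hV, hxV⟩ := Opens.mem_sSup.mp hx
  change X.Opens at V
  obtain ⟨e⟩ := hV
  have h1 : PicF.IsInvertible (F.restrict V.ι) :=
    isInvertible_of_iso e.symm (isInvertible_structureModule _)
  obtain ⟨t, ht⟩ := K476.Ref1.exists_isGen_of_restrict h1 hxV
  have hF' : Coh.IsCoh (F.restrict (invOpen F).ι) := by
    exact Groth.Agent.CohqB.LocalQC.isCoh_restrict _ hF
  have h2 := isGen_ρo_symm (U := invOpen F) hx ht
  exact exists_isInvertible_nhd hF' h2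

open Groth.Agent.CycB Groth.Agent.CycB.ModStalk K475.GenStalk K475.Rank1 in
theorem two_le_of_notMem_invOpen [IsIntegral X] [IsLocallyNoetherian X] (hX : Pi1.IsNormalScheme X)
    (F : X.Modules) (hF : Coh.IsCoh F) (hr : RefHull.GenInvertible F)
    (h : ∀ x : ↥X, Module.IsTorsionFree (X.presheaf.stalk x) (F.presheaf.stalk x))
    (x : X) (hx : x ∉ invOpen F) :
    (2 : WithBot ℕ∞) ≤ ringKrullDim (X.presheaf.stalk x) := by
  by_contra hlt
  have hle : ringKrullDim (X.presheaf.stalk x) ≤ 1 := Groth.Agent.S1690.le_one_of_not _ hlt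
  have h0 := (hX x).1
  have h1 := (hX x).2
  have hp := isPrincipalIdealRing_of_isIntegrallyClosed hle
  obtain ⟨t, ht⟩ := K476.Ref1.exists_isGen_of_pid hF hr x hp (h x)
  obtain ⟨V, hxV, e⟩ := exists_isInvertible_nhd hF ht
  exact hx (Opens.mem_sSup.mpr ⟨V, e, hxV⟩)

theorem isIso_unit [IsLocallyNoetherian X]
    (hreg : ∀ x : X, IsRegularLocalRing (X.presheaf.stalk x)) {F : X.Modules} (hF : Coh.IsCoh F)
    (hr : ∀ x, Module.IsReflexive (X.presheaf.stalk x) (F.presheaf.stalk x)) (U : X.Opens)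
    (hU : ∀ x : X, x ∉ U → (2 : WithBot ℕ∞) ≤ ringKrullDim (X.presheaf.stalk x)) :
    IsIso ((Scheme.Modules.restrictAdjunction U.ι).unit.app F) := by
  rw [Groth.Agent.Divis.ReflexSheaf.isIso_unit_iff]
  intro V
  exact bijective_of_isReflexive hreg hF hr V (V ⊓ U) inf_le_left
    fun x hxV hx => hU x fun h => hx ⟨hxV, h⟩

open Groth.Agent.CycB Groth.Agent.CycB.ModStalk K475.GenStalk K475.Rank1 in
/-- Rank one reflexive modules on regular schemes are invertible. -/
theorem isInvertible_of_isReflexive [IsIntegral X] [IsLocallyNoetherian X]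
    (hreg : ∀ x : X, IsRegularLocalRing (X.presheaf.stalk x)) {F : X.Modules} (hF : Coh.IsCoh F)
    (hr : ∀ x, Module.IsReflexive (X.presheaf.stalk x) (F.presheaf.stalk x))
    (hrk : RefHull.GenInvertible F) : PicF.IsInvertible F := by
  have hX := isNormal hreg
  have hU := two_le_of_notMem_invOpen hX F hF hrk (fun x => by
    have := hr x
    have := (hX x).1
    infer_instance)
  obtain ⟨L, hL, ⟨e⟩⟩ := Groth.Agent.S0234.result X (invOpen F) (F.restrict (invOpen F).ι)
    (isInvertible_invOpen F hF) (fun x _ => by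
      have := hreg x
      exact (Groth.Agent.S2821.result (X.presheaf.stalk x)).2)
  have hLc : Coh.IsCoh L := by
    apply Groth.Agent.PerfA.CohSerre.isCoh_of_isFinLocFree
    intro x
    obtain ⟨V, hV, ⟨e⟩⟩ := hL x
    exact ⟨V, 1, hV, ⟨e ≪≫ Groth.Agent.Ega2.QCohLocal.freeModOneIso _⟩⟩
  have h1 := isIso_unit hreg hF hr (invOpen F) hU
  have h2 := isIso_unit hreg hLc (fun x => by
    obtain ⟨t, ht⟩ := exists_isGen hL x
    exact isReflexive_of_equiv (genEquiv ht)) (invOpen F) hU
  let E : L ≅ F := asIso ((Scheme.Modules.restrictAdjunction (invOpen F).ι).unit.app L) ≪≫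
    (Scheme.Modules.pushforward (invOpen F).ι).mapIso e ≪≫
    (asIso ((Scheme.Modules.restrictAdjunction (invOpen F).ι).unit.app F)).symm
  exact isInvertible_of_iso E hL

end K852.Reflex
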